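import Groth.Agent.H1PdLib.Basic
import Groth.Agent.CAlgOdd.AuslanderBuchsbaum
import Groth.Agent.LC.ExtDim
import Groth.Agent.LC.PdRegular
import Groth.Agent.QCoh.Stalk
import Mathlib

/-!
# Rectified depth on a regular biequidimensional scheme
-/

universe u

set_option backward.isDefEq.respectTransparency false
set_option backward.isDefEq.respectTransparency.types false
set_option linter.style.haveILetI false
set_option maxHeartbeats 1000000
set_option synthInstance.maxHeartbeats 100000

open AlgebraicGeometry CategoryTheory TensorProduct Topology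
open Groth.Agent.RegLoc6 Groth.Agent.H1RectCons

namespace Groth.Agent.H1PdLib

variable {X : Scheme.{u}}

/-- The generizations of a point form a copy of the spectrum of its local ring. -/
theorem topologicalKrullDim_generizations (x : X) :
    topologicalKrullDim ↥{t : X | t ⤳ x} = ringKrullDim (X.presheaf.stalk x) := by
  let e : ↥(Spec (X.presheaf.stalk x)) ≃ₜ ↥{t : X | t ⤳ x} :=
    (X.fromSpecStalk x).isEmbedding.toHomeomorph.trans (Homeomorph.setCongr Scheme.range_fromSpecStalk)
  rw [← e.isHomeomorph.topologicalKrullDim_eq]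
  exact PrimeSpectrum.topologicalKrullDim_eq_ringKrullDim _

/-- At a point with integral local ring the generizations lie on one component. -/
theorem generizations_subset (x : X) [IsDomain (X.presheaf.stalk x)] {C : Set X}
    (hC : C ∈ irreducibleComponents (X : Type u)) (hx : x ∈ C) : {t : X | t ⤳ x} ⊆ C := by
  have hR : IsIrreducible {t : X | t ⤳ x} := by
    rw [← Scheme.range_fromSpecStalk, ← Set.image_univ]
    haveI : IrreducibleSpace ↥(Spec (X.presheaf.stalk x)) := inferInstanceAs (IrreducibleSpace (PrimeSpectrum _))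
    exact (IrreducibleSpace.isIrreducible_univ _).image _ (X.fromSpecStalk x).continuous.continuousOn
  have hCcl := isClosed_of_mem_irreducibleComponents C hC
  have hgen := hC.1.isGenericPoint_genericPoint hCcl
  have hle : C ⊆ closure {t : X | t ⤳ x} := by
    rw [← hgen.def]
    exact closure_mono (Set.singleton_subset_iff.2 (hgen.specializes hx))
  exact subset_closure.trans (hC.2 hR.closure hle)

theorem dim_closure_add (hreg : ∀ x : X, IsRegularLocalRing ↑(X.presheaf.stalk x))
    (hcomp : ∀ C ∈ irreducibleComponents (X : Type u), topologicalKrullDim ↥C = topologicalKrullDim X)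
    (hchain : ∀ (y : X) (T : Set X), IsClosed T → IsIrreducible T → y ∈ T →
      topologicalKrullDim ↥T = topologicalKrullDim ↥(closure ({y} : Set X)) + topologicalKrullDim ↥{t : X | t ∈ T ∧ t ⤳ y})
    (x : X) :
    topologicalKrullDim ↥(closure ({x} : Set X)) + ringKrullDim (X.presheaf.stalk x) = topologicalKrullDim X := by
  haveI := hreg x
  haveI := RegLoc6.isDomain_of_isRegularLocalRing (X.presheaf.stalk x)
  have hC := irreducibleComponent_mem_irreducibleComponents (x : X)
  have hsub := generizations_subset x hC mem_irreducibleComponent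
  rw [← hcomp _ hC, hchain x _ isClosed_irreducibleComponent isIrreducible_irreducibleComponent mem_irreducibleComponent,
    ← topologicalKrullDim_generizations x,
    show {t : X | t ∈ irreducibleComponent x ∧ t ⤳ x} = {t : X | t ⤳ x} from
      Set.ext fun t => ⟨And.right, fun h => ⟨hsub h, h⟩⟩]

/-- A natural number out of a finite dimension. -/
theorem exists_dims (hreg : ∀ x : X, IsRegularLocalRing ↑(X.presheaf.stalk x))
    (hfin : topologicalKrullDim X < ⊤)
    (hcomp : ∀ C ∈ irreducibleComponents (X : Type u), topologicalKrullDim ↥C = topologicalKrullDim X)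
    (hchain : ∀ (y : X) (T : Set X), IsClosed T → IsIrreducible T → y ∈ T →
      topologicalKrullDim ↥T = topologicalKrullDim ↥(closure ({y} : Set X)) + topologicalKrullDim ↥{t : X | t ∈ T ∧ t ⤳ y})
    (x : X) :
    ∃ c d : ℕ, topologicalKrullDim ↥(closure ({x} : Set X)) = (c : WithBot ℕ∞) ∧
      ringKrullDim (X.presheaf.stalk x) = (d : WithBot ℕ∞) ∧ topologicalKrullDim X = ((c + d : ℕ) : WithBot ℕ∞) := by
  haveI := hreg x
  have h := dim_closure_add hreg hcomp hchain x
  obtain ⟨d, hd⟩ := LC.exists_supportDim_eq_nat (R := X.presheaf.stalk x) (X.presheaf.stalk x)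
  rw [Module.supportDim_self_eq_ringKrullDim] at hd
  haveI : Nonempty ↥(closure ({x} : Set X)) := ⟨⟨x, subset_closure rfl⟩⟩
  rw [hd] at h
  rw [← h] at hfin
  obtain ⟨c, hc⟩ : ∃ c : ℕ, topologicalKrullDim ↥(closure ({x} : Set X)) = (c : WithBot ℕ∞) := by
    haveI : Nonempty (TopologicalSpace.IrreducibleCloseds ↥(closure ({x} : Set X))) :=
      ⟨⟨irreducibleComponent ⟨x, subset_closure rfl⟩, isIrreducible_irreducibleComponent, isClosed_irreducibleComponent⟩⟩
    have h1 : (0 : WithBot ℕ∞) ≤ topologicalKrullDim ↥(closure ({x} : Set X)) := Order.krullDim_nonneg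
    generalize topologicalKrullDim ↥(closure ({x} : Set X)) = a at h1 hfin
    induction a with
    | bot => simp at h1
    | coe a =>
      induction a using ENat.recTopCoe with
      | top => exact absurd hfin (by rw [← WithBot.coe_natCast, ← WithBot.coe_add, top_add]; exact lt_irrefl _)
      | coe a => exact ⟨a, rfl⟩
  exact ⟨c, d, hc, hd, by rw [← h, hc]; norm_cast⟩

variable (F : X.Modules)

/-- Projective dimension at the points of an affine open. -/
theorem pdLE_stalk_iff (hM : Coh.IsQCoh F) {U : X.Opens} (hU : IsAffineOpen U) {x : X} (hx : x ∈ U) (e : ℕ) :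
    PdLE (X.presheaf.stalk x) e (F.presheaf.stalk x) ↔
      PdLE (Localization.AtPrime (hU.primeIdealOf ⟨x, hx⟩).asIdeal) e
        (Localization.AtPrime (hU.primeIdealOf ⟨x, hx⟩).asIdeal ⊗[Γ(X, U)] Γ(F, U)) := by
  let q := hU.primeIdealOf ⟨x, hx⟩
  letI := QCoh.stalkAlg (X := X) hx
  letI := QCoh.stalkModule F hx
  haveI := QCoh.isScalarTower_stalk F hx
  haveI := QCoh.isLocalization_stalk' hU hx
  haveI := QCoh.isLocalizedModule_germLin hM hU hx
  let e₁ := (IsLocalizedModule.isBaseChange q.asIdeal.primeCompl (X.presheaf.stalk x) (QCoh.germLin F hx)).equiv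
  let ε : Localization.AtPrime q.asIdeal ≃ₐ[Γ(X, U)] X.presheaf.stalk x :=
    IsLocalization.algEquiv q.asIdeal.primeCompl _ _
  exact ⟨fun h => pdLE_congr_of_algEquiv ε.symm e _ (pdLE_of_equiv e₁.symm h),
    fun h => pdLE_of_equiv e₁ (pdLE_congr_of_algEquiv ε e _ h)⟩

/-- The loci of bounded projective dimension of a coherent module are open. -/
theorem isOpen_pdLE_stalk [IsLocallyNoetherian X] (hF : Coh.IsCoh F) (e : ℕ) :
    IsOpen {x : X | PdLE (X.presheaf.stalk x) e (F.presheaf.stalk x)} := by
  rw [isOpen_iff_forall_mem_open]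
  intro x hx
  obtain ⟨_, ⟨U, hU, rfl⟩, hxU, -⟩ :=
    X.isBasis_affineOpens.exists_subset_of_mem_open (Set.mem_univ x) isOpen_univ
  have hU' : IsAffineOpen U := hU
  haveI : IsNoetherianRing Γ(X, U) := IsLocallyNoetherian.component_noetherian ⟨U, hU'⟩
  haveI := QCoh.finite_sections hF hU'
  obtain ⟨s, hs, h⟩ := exists_away_pdLE (hU'.primeIdealOf ⟨x, hxU⟩).asIdeal e Γ(F, U)
    ((pdLE_stalk_iff F hF.1 hU' hxU e).1 hx)
  refine ⟨X.basicOpen s, fun y hy => ?_, (X.basicOpen s).2, (QCoh.mem_basicOpen_iff_notMem hU' hxU s).2 hs⟩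
  have hyU : y ∈ U := X.basicOpen_le s hy
  exact (pdLE_stalk_iff F hF.1 hU' hyU e).2
    (pdLE_atPrime_of_away ((QCoh.mem_basicOpen_iff_notMem hU' hyU s).1 hy) e _ h)

/-- The rectified depth in terms of the projective dimension. -/
theorem rdepth_spec [IsLocallyNoetherian X] (hreg : ∀ x : X, IsRegularLocalRing ↑(X.presheaf.stalk x))
    (hfin : topologicalKrullDim X < ⊤)
    (hcomp : ∀ C ∈ irreducibleComponents (X : Type u), topologicalKrullDim ↥C = topologicalKrullDim X)
    (hchain : ∀ (y : X) (T : Set X), IsClosed T → IsIrreducible T → y ∈ T →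
      topologicalKrullDim ↥T = topologicalKrullDim ↥(closure ({y} : Set X)) + topologicalKrullDim ↥{t : X | t ∈ T ∧ t ⤳ y})
    (hF : Coh.IsCoh F) (x : X) (hx : x ∈ CohB1.support F) :
    ∃ a e c d : ℕ, a + e = d ∧ LocCoh.depth ↑(X.presheaf.stalk x) ↑(F.presheaf.stalk x) = (a : ℕ∞) ∧
      topologicalKrullDim ↥(closure ({x} : Set X)) = (c : WithBot ℕ∞) ∧
      topologicalKrullDim X = ((c + d : ℕ) : WithBot ℕ∞) ∧
      projectiveDimension (ModuleCat.of ↑(X.presheaf.stalk x) ↑(F.presheaf.stalk x)) = (e : WithBot ℕ∞) ∧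
      ∀ j, PdLE (X.presheaf.stalk x) j (F.presheaf.stalk x) ↔ e ≤ j := by
  classical
  haveI := hreg x
  haveI : Nontrivial (F.presheaf.stalk x) := not_subsingleton_iff_nontrivial.1 hx
  haveI := QCoh.finite_stalk_of_isFT hF.1 hF.2 x
  obtain ⟨c, d, hc, hd, hX⟩ := exists_dims hreg hfin hcomp hchain x
  have hex : ∃ e, PdLE (X.presheaf.stalk x) e (F.presheaf.stalk x) :=
    ⟨d, LC.pdLE_of_le_depth _ d hd _ d le_add_self⟩
  obtain ⟨a, ha⟩ := LC.exists_depth_eq_nat (R := X.presheaf.stalk x) (F.presheaf.stalk x)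
  have hab := CAlgOdd.AB.depth_add_eq (Nat.find hex) (F.presheaf.stalk x) (Nat.find_spec hex)
    fun e' he' => Nat.find_min hex he'
  haveI := LC.gorenstein_of_isRegularLocalRing (R := X.presheaf.stalk x)
  haveI := LC.isCohenMacaulayLocalRing_of_gorenstein (R := X.presheaf.stalk x)
  have hdR : LocCoh.depth (X.presheaf.stalk x) (X.presheaf.stalk x) = (d : ℕ∞) := by
    have := LocCoh.IsCohenMacaulayLocalRing.supportDim_eq_depth (R := X.presheaf.stalk x)
    rw [Module.supportDim_self_eq_ringKrullDim, hd] at this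
    exact_mod_cast this.symm
  rw [ha, hdR] at hab
  exact ⟨a, Nat.find hex, c, d, by exact_mod_cast hab, ha, hc, hX,
    projectiveDimension_eq _ (Nat.find_spec hex) fun e' he' => Nat.find_min hex he',
    fun j => ⟨fun h => Nat.find_le h, fun h => pdLE_mono h (Nat.find_spec hex)⟩⟩

theorem rdepth_add_pd [IsLocallyNoetherian X] (hreg : ∀ x : X, IsRegularLocalRing ↑(X.presheaf.stalk x))
    (hfin : topologicalKrullDim X < ⊤)
    (hcomp : ∀ C ∈ irreducibleComponents (X : Type u), topologicalKrullDim ↥C = topologicalKrullDim X)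
    (hchain : ∀ (y : X) (T : Set X), IsClosed T → IsIrreducible T → y ∈ T →
      topologicalKrullDim ↥T = topologicalKrullDim ↥(closure ({y} : Set X)) + topologicalKrullDim ↥{t : X | t ∈ T ∧ t ⤳ y})
    (hF : Coh.IsCoh F) (x : X) (hx : x ∈ CohB1.support F) :
    ((LocCoh.depth ↑(X.presheaf.stalk x) ↑(F.presheaf.stalk x) : ℕ∞) : WithBot ℕ∞) +
        topologicalKrullDim ↥(closure ({x} : Set X)) +
        projectiveDimension (ModuleCat.of ↑(X.presheaf.stalk x) ↑(F.presheaf.stalk x)) =
      topologicalKrullDim X := by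
  obtain ⟨a, e, c, d, had, ha, hc, hX, he, -⟩ := rdepth_spec F hreg hfin hcomp hchain hF x hx
  rw [ha, hc, hX, he]
  exact_mod_cast (show a + c + e = c + d by omega)

theorem isOpen_le_rdepth [IsLocallyNoetherian X] (hreg : ∀ x : X, IsRegularLocalRing ↑(X.presheaf.stalk x))
    (hfin : topologicalKrullDim X < ⊤)
    (hcomp : ∀ C ∈ irreducibleComponents (X : Type u), topologicalKrullDim ↥C = topologicalKrullDim X)
    (hchain : ∀ (y : X) (T : Set X), IsClosed T → IsIrreducible T → y ∈ T →
      topologicalKrullDim ↥T = topologicalKrullDim ↥(closure ({y} : Set X)) + topologicalKrullDim ↥{t : X | t ∈ T ∧ t ⤳ y})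
    (hF : Coh.IsCoh F) (n : ℕ) :
    IsOpen {x : X | (n : WithBot ℕ∞) ≤
      ((LocCoh.depth ↑(X.presheaf.stalk x) ↑(F.presheaf.stalk x) : ℕ∞) : WithBot ℕ∞) +
        topologicalKrullDim ↥(closure ({x} : Set X))} := by
  have hsuppc := (QCoh.isClosed_support_of_isFT hF.1 hF.2).isOpen_compl
  by_cases hN : topologicalKrullDim X = ⊥
  · haveI : IsEmpty X := by
      by_contra hne
      rw [not_isEmpty_iff] at hne
      obtain ⟨c, d, -, -, h⟩ := exists_dims hreg hfin hcomp hchain hne.some
      rw [hN] at h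
      exact WithBot.bot_ne_coe h
    exact isOpen_discrete _
  obtain ⟨N, hN'⟩ : ∃ N : ℕ, topologicalKrullDim X = (N : WithBot ℕ∞) := by
    generalize topologicalKrullDim X = a at hN hfin
    induction a with
    | bot => exact absurd rfl hN
    | coe a =>
      induction a using ENat.recTopCoe with
      | top => exact absurd hfin (by simp)
      | coe a => exact ⟨a, rfl⟩
  let T : Set X := if n ≤ N then {x : X | PdLE (X.presheaf.stalk x) (N - n) (F.presheaf.stalk x)} else ∅
  have hT : IsOpen T := by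
    show IsOpen (ite _ _ _)
    split
    · exact isOpen_pdLE_stalk F hF _
    · exact isOpen_empty
  convert hsuppc.union hT using 1
  ext x
  by_cases hx : x ∈ CohB1.support F
  · obtain ⟨a, e, c, d, had, ha, hc, hX, -, hpd⟩ := rdepth_spec F hreg hfin hcomp hchain hF x hx
    have hNcd : N = c + d := by rw [hN'] at hX; exact_mod_cast hX
    have h1 : x ∈ T ↔ n ≤ a + c := by
      show x ∈ ite _ _ _ ↔ _
      split
      · exact (hpd _).trans (by omega)
      · exact iff_of_false (fun h => h) (by omega)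
    simp only [Set.mem_union, Set.mem_compl_iff, hx, not_true, false_or, h1, Set.mem_ofPred_eq, ha, hc]
    exact_mod_cast Iff.rfl
  · refine iff_of_true ?_ (Or.inl hx)
    haveI : Subsingleton (F.presheaf.stalk x) := not_not.1 hx
    rw [Set.mem_ofPred_eq, FlatLoc6.depth_top_of_subsingleton]
    obtain ⟨c, d, hc, -, -⟩ := exists_dims hreg hfin hcomp hchain x
    rw [hc]
    have h1 : ((n : ℕ∞) : WithBot ℕ∞) ≤ (((⊤ : ℕ∞) + (c : ℕ∞) : ℕ∞) : WithBot ℕ∞) :=
      WithBot.coe_le_coe.2 (by rw [top_add]; exact le_top)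
    rwa [WithBot.coe_add] at h1

end Groth.Agent.H1PdLib
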