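import Groth.Agent.H1PdLib.Basic
import Groth.Agent.Codepth5.Local
import Groth.Agent.FlatSyz5.Resolution
import Groth.Agent.FlatSyz5.FibreFree
import Groth.Agent.FlatMisc.ValuationLocalFP
import Groth.Agent.LC.PdRegular
import Mathlib

/-!
# Projective dimension over local rings with regular fibre
-/

universe u

set_option linter.style.haveILetI false
set_option maxHeartbeats 1000000
set_option synthInstance.maxHeartbeats 100000

open TensorProduct Groth.Agent.RegLoc6

namespace Groth.Agent.H1PdLib

section Fibre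

variable {A L : Type u} [CommRing A] [CommRing L] [IsLocalRing L] [Algebra A L] [Module.Flat A L]

theorem pdLE_of_fibre_pdLE
    (hFP : ∀ (K : Type u) [AddCommGroup K] [Module L K] [Module A K] [IsScalarTower A L K] [Module.Finite L K]
      [Module.Flat A K], Module.FinitePresentation L K)
    (I : Ideal A) (hI : I.map (algebraMap A L) ≠ ⊤) (j : ℕ) :
    ∀ (M : Type u) [AddCommGroup M] [Module L M] [Module A M] [IsScalarTower A L M]
      [Module.FinitePresentation L M] [Module.Flat A M],
      PdLE (L ⧸ I.map (algebraMap A L)) j ((L ⧸ I.map (algebraMap A L)) ⊗[L] M) → PdLE L j M := by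
  induction j with
  | zero =>
    intro M _ _ _ _ _ _ h
    haveI : Nontrivial (L ⧸ I.map (algebraMap A L)) := Ideal.Quotient.nontrivial_iff.2 hI
    haveI : IsLocalRing (L ⧸ I.map (algebraMap A L)) :=
      IsLocalRing.of_surjective' (Ideal.Quotient.mk _) Ideal.Quotient.mk_surjective
    haveI : Module.Projective _ _ := pdLE_zero_iff.1 h
    haveI : Module.Free L M := FlatSyz5.free_of_fibre I hI Module.free_of_flat_of_isLocalRing
    exact pdLE_zero_iff.2 inferInstance
  | succ j ih =>
    intro M _ _ _ _ _ _ h
    obtain ⟨n, π, hπ⟩ := Module.Finite.exists_fin' L M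
    let O := L ⧸ I.map (algebraMap A L)
    haveI : Module.Flat A (LinearMap.ker π) := FlatSyz5.flat_ker A (π.restrictScalars A) hπ
    haveI : Module.Finite L (LinearMap.ker π) :=
      Module.Finite.iff_fg.2 (Module.FinitePresentation.fg_ker π hπ)
    haveI := hFP (LinearMap.ker π)
    let i := (LinearMap.ker π).subtype
    have hinj : Function.Injective (i.baseChange O) :=
      Codepth5.lTensor_quot_injective i π Subtype.val_injective (LinearMap.exact_subtype_ker_map π) hπ I
    have hex : Function.Exact (i.baseChange O) (π.baseChange O) :=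
      lTensor_exact O (LinearMap.exact_subtype_ker_map π) hπ
    let eK : O ⊗[L] LinearMap.ker π ≃ₗ[O] LinearMap.ker (π.baseChange O) :=
      LinearEquiv.ofBijective ((i.baseChange O).codRestrict _ fun x => hex.apply_apply_eq_zero x)
        ⟨fun x y hxy => hinj (congrArg Subtype.val hxy), fun z => by
          obtain ⟨x, hx⟩ := (hex z.1).1 z.2
          exact ⟨x, Subtype.ext hx⟩⟩
    exact (pdLE_succ_iff π hπ).2 (ih _ (pdLE_of_equiv eK.symm
      ((pdLE_succ_iff (π.baseChange O) (LinearMap.lTensor_surjective O hπ)).1 h)))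

end Fibre

section Valuation

variable {V L : Type u} [CommRing V] [IsDomain V] [ValuationRing V] [CommRing L] [Algebra V L] [Module.Flat V L]
  [Algebra.EssFiniteType V L]

omit [Module.Flat V L] [Algebra.EssFiniteType V L] in
variable (V) in
include V in
theorem flat_submodule {F : Type u} [AddCommGroup F] [Module L F] [Module V F] [IsScalarTower V L F] [Module.Flat V F]
    (K : Submodule L F) : Module.Flat V K := by
  rw [Module.Flat.flat_iff_torsion_eq_bot_of_isBezout, Submodule.eq_bot_iff]
  rintro x ⟨r, hr⟩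
  have h : (x : F) ∈ Submodule.torsion V F := ⟨r, congrArg Subtype.val hr⟩
  rw [Module.Flat.torsion_eq_bot, Submodule.mem_bot] at h
  exact Subtype.ext h

variable (V) in
include V in
/-- Kernels of maps between finite free modules are finitely presented. -/
theorem fp_ker_free {a b : ℕ} (f : (Fin a → L) →ₗ[L] (Fin b → L)) :
    Module.FinitePresentation L (LinearMap.ker f) := by
  haveI : Module.Flat V (Fin b → L) := Module.Flat.trans V L _
  haveI : Module.Flat V (Fin a → L) := Module.Flat.trans V L _
  haveI := flat_submodule V (LinearMap.range f)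
  haveI := FlatMisc.ValuationLocalFP.finitePresentation (A := V) (B := L) (M := LinearMap.range f)
  haveI : Module.Finite L (LinearMap.ker f) := Module.Finite.iff_fg.2 (by
    rw [← f.ker_rangeRestrict]
    exact Module.FinitePresentation.fg_ker f.rangeRestrict f.surjective_rangeRestrict)
  haveI := flat_submodule V (LinearMap.ker f)
  exact FlatMisc.ValuationLocalFP.finitePresentation (A := V)

variable [IsLocalRing L] (I : Ideal V) [IsRegularLocalRing (L ⧸ I.map (algebraMap V L))] {n : ℕ}

variable {I} in
theorem pdLE_of_flat (hn : ringKrullDim (L ⧸ I.map (algebraMap V L)) = n) (M : Type u) [AddCommGroup M] [Module L M]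
    [Module V M] [IsScalarTower V L M] [Module.FinitePresentation L M] [Module.Flat V M] : PdLE L n M := by
  have hI : I.map (algebraMap V L) ≠ ⊤ := Ideal.Quotient.nontrivial_iff.1 inferInstance
  haveI : Module.Finite (L ⧸ I.map (algebraMap V L)) ((L ⧸ I.map (algebraMap V L)) ⊗[L] M) :=
    Module.Finite.base_change L _ M
  exact pdLE_of_fibre_pdLE (A := V) (fun K => FlatMisc.ValuationLocalFP.finitePresentation (A := V)) I hI n M
    (LC.pdLE_of_le_depth _ n hn _ n le_add_self)

variable {I} in
theorem pdLE_of_fp (hn : ringKrullDim (L ⧸ I.map (algebraMap V L)) = n) (M : Type u) [AddCommGroup M] [Module L M]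
    [Module.FinitePresentation L M] : PdLE L (n + 1) M := by
  obtain ⟨a, π, hπ⟩ := Module.Finite.exists_fin' L M
  haveI : Module.Flat V (Fin a → L) := Module.Flat.trans V L _
  haveI := flat_submodule V (LinearMap.ker π)
  haveI : Module.Finite L (LinearMap.ker π) := Module.Finite.iff_fg.2 (Module.FinitePresentation.fg_ker π hπ)
  haveI := FlatMisc.ValuationLocalFP.finitePresentation (A := V) (B := L) (M := LinearMap.ker π)
  exact (pdLE_succ_iff π hπ).2 (pdLE_of_flat hn _)

variable {I} in
theorem pdLE_ker_free (hn : ringKrullDim (L ⧸ I.map (algebraMap V L)) = n) {a b : ℕ}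
    (f : (Fin a → L) →ₗ[L] (Fin b → L)) : PdLE L (n - 1) (LinearMap.ker f) := by
  haveI : Module.FinitePresentation L ((Fin b → L) ⧸ LinearMap.range f) :=
    Module.finitePresentation_of_surjective (LinearMap.range f).mkQ (Submodule.mkQ_surjective _) (by
      rw [Submodule.ker_mkQ]
      exact LinearMap.range_eq_map f ▸ Module.Finite.fg_top.map f)
  have h1 : PdLE L n (LinearMap.ker (LinearMap.range f).mkQ) :=
    pdLE_ker _ (Submodule.mkQ_surjective _) (pdLE_of_fp hn _) (pdLE_of_projective n)
  have h2 : PdLE L (n - 1 + 1) (LinearMap.range f) :=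
    pdLE_mono (by omega) (pdLE_of_equiv (LinearEquiv.ofEq _ _ (Submodule.ker_mkQ _)) h1)
  exact pdLE_of_equiv (LinearEquiv.ofEq _ _ f.ker_rangeRestrict)
    (pdLE_ker f.rangeRestrict f.surjective_rangeRestrict h2 (pdLE_of_projective _))

omit [Module.Flat V L] [Algebra.EssFiniteType V L] [IsLocalRing L] in
/-- The dual of a cokernel is the kernel of the dual map. -/
theorem exists_dual_equiv_ker {a b : ℕ} {N : Type u} [AddCommGroup N] [Module L N] (g : (Fin b → L) →ₗ[L] (Fin a → L))
    (π : (Fin a → L) →ₗ[L] N) (hπ : Function.Surjective π) (hex : Function.Exact g π) :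
    ∃ f : (Fin a → L) →ₗ[L] (Fin b → L), Nonempty (Module.Dual L N ≃ₗ[L] LinearMap.ker f) := by
  let ea : Module.Dual L (Fin a → L) ≃ₗ[L] (Fin a → L) := (Pi.basisFun L (Fin a)).dualBasis.equivFun
  let eb : Module.Dual L (Fin b → L) ≃ₗ[L] (Fin b → L) := (Pi.basisFun L (Fin b)).dualBasis.equivFun
  let i : Module.Dual L N →ₗ[L] (Fin a → L) := ea.toLinearMap ∘ₗ π.dualMap
  let f := eb.toLinearMap ∘ₗ g.dualMap ∘ₗ ea.symm.toLinearMap
  refine ⟨f, ⟨LinearEquiv.ofBijective (i.codRestrict _ fun φ => ?_) ⟨fun φ ψ h => ?_, fun y => ?_⟩⟩⟩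
  · show eb (g.dualMap (ea.symm (ea (π.dualMap φ)))) = 0
    rw [ea.symm_apply_apply, show g.dualMap (π.dualMap φ) = 0 from LinearMap.ext fun x => by
      simp [LinearMap.dualMap_apply, hex.apply_apply_eq_zero], map_zero]
  · have h1 : π.dualMap φ = π.dualMap ψ := ea.injective (congrArg Subtype.val h)
    refine LinearMap.ext fun x => ?_
    obtain ⟨x, rfl⟩ := hπ x
    exact LinearMap.congr_fun h1 x
  · have hy : g.dualMap (ea.symm y.1) = 0 := eb.injective (by rw [map_zero]; exact y.2)
    have hker : LinearMap.ker π ≤ LinearMap.ker (ea.symm y.1) := fun x hx => by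
      obtain ⟨z, rfl⟩ := (hex x).1 hx
      exact LinearMap.congr_fun hy z
    let φ : Module.Dual L N := (LinearMap.ker π).liftQ _ hker ∘ₗ (π.quotKerEquivOfSurjective hπ).symm.toLinearMap
    refine ⟨φ, Subtype.ext ?_⟩
    show ea (π.dualMap φ) = y.1
    rw [show π.dualMap φ = ea.symm y.1 from LinearMap.ext fun x => ?_, ea.apply_symm_apply]
    show (LinearMap.ker π).liftQ _ hker ((π.quotKerEquivOfSurjective hπ).symm (π x)) = _
    rw [← π.quotKerEquivOfSurjective_apply_mk hπ x, LinearEquiv.symm_apply_apply]
    rfl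

variable {I} in
theorem pdLE_of_reflexive (hn : ringKrullDim (L ⧸ I.map (algebraMap V L)) = n) (M : Type u) [AddCommGroup M]
    [Module L M] [Module.FinitePresentation L M] [Module.IsReflexive L M] : PdLE L (n - 1) M := by
  obtain ⟨a, b, π, g, hπ, hex⟩ := Module.FinitePresentation.exists_fin' L M
  obtain ⟨f, ⟨e⟩⟩ := exists_dual_equiv_ker g π hπ hex
  haveI := fp_ker_free V f
  haveI : Module.FinitePresentation L (Module.Dual L M) := Module.FinitePresentation.of_equiv e.symm
  obtain ⟨a', b', π', g', hπ', hex'⟩ := Module.FinitePresentation.exists_fin' L (Module.Dual L M)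
  obtain ⟨f', ⟨e'⟩⟩ := exists_dual_equiv_ker g' π' hπ' hex'
  exact pdLE_of_equiv ((Module.evalEquiv L M).trans e').symm (pdLE_ker_free hn f')

end Valuation

end Groth.Agent.H1PdLib
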